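/-
The exponents of the twenty four roots on the cyclic maximal torus of order `(q³ - 1)(q + 1)`.
-/
import Cfsg.Agent.Lib.Chev.Types
import Cfsg.Agent.Lib.Chev.Group
import Cfsg.Agent.Lib.Chev.Conj

set_option autoImplicit false
set_option maxRecDepth 100000

namespace CfsgLib.Chev.D4Torus

open Cfsg.Lie CfsgLib.Chev

/-- the exponents of the torus coordinates, as coefficients of `q³, q², q, 1` -/
def co : Fin 4 → Fin 4 → ℤ :=
  ![![0, 0, 1, 1], ![0, 1, 1, 1], ![0, 1, 1, 0], ![1, 1, 0, 0]]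

/-- the coefficient of `q^(3-j)` in the exponent of a root -/
noncomputable def ec (r : Fin 24) (j : Fin 4) : ℤ :=
  ∑ i : Fin 4, co i j * auxD4.cart i.val r.val

/-- the exponent of a root -/
noncomputable def expo (q : ℤ) (r : Fin 24) : ℤ :=
  ec r 0 * q ^ 3 + ec r 1 * q ^ 2 + ec r 2 * q + ec r 3

/-- the exponent of a coordinate -/
def cexp (q : ℤ) (i : Fin 4) : ℤ := co i 0 * q ^ 3 + co i 1 * q ^ 2 + co i 2 * q + co i 3

theorem sum_cexp (q : ℤ) (r : Fin 24) :
    ∑ i : Fin 4, cexp q i * auxD4.cart i.val r.val = expo q r := by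
  simp only [cexp, expo, ec, Fin.sum_univ_four]
  ring

/-- the order of the torus -/
def tm (q : ℤ) : ℤ := (q ^ 3 - 1) * (q + 1)

theorem coeff_bound : ∀ (r : Fin 24) (j : Fin 4), -4 ≤ ec r j ∧ ec r j ≤ 4 := by
  decide +kernel

theorem diff_bound : ∀ (r s : Fin 24) (j : Fin 4), -4 ≤ ec r j - ec s j ∧ ec r j - ec s j ≤ 4 := by
  decide +kernel

theorem coeff_ne : ∀ r : Fin 24, ∃ j : Fin 4, ec r j ≠ 0 := by decide +kernel

theorem diff_ne : ∀ r s : Fin 24, r ≠ s → ∃ j : Fin 4, ec r j - ec s j ≠ 0 := by decide +kernel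

theorem digits {q : ℤ} (hq : 5 ≤ q) (a b c d : ℤ) (ha : -4 ≤ a ∧ a ≤ 4) (hb : -4 ≤ b ∧ b ≤ 4)
    (hc : -4 ≤ c ∧ c ≤ 4) (hd : -4 ≤ d ∧ d ≤ 4)
    (hdvd : tm q ∣ a * q ^ 3 + b * q ^ 2 + c * q + d) : a = 0 ∧ b = 0 ∧ c = 0 ∧ d = 0 := by
  have h2 : q * 5 ≤ q ^ 2 := by nlinarith
  have h3 : q ^ 2 * 5 ≤ q ^ 3 := by nlinarith
  have h4 : q ^ 3 * 5 ≤ q ^ 4 := by nlinarith
  have hm : tm q = q ^ 4 + q ^ 3 - q - 1 := by unfold tm; ring
  have h0 : a * q ^ 3 + b * q ^ 2 + c * q + d = 0 := by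
    refine Int.eq_zero_of_abs_lt_dvd hdvd ?_
    rw [hm, abs_lt]
    have n1 : (0 : ℤ) ≤ q := by omega
    have n2 : (0 : ℤ) ≤ q ^ 2 := by positivity
    have n3 : (0 : ℤ) ≤ q ^ 3 := pow_nonneg n1 3
    constructor <;> nlinarith [mul_le_mul_of_nonneg_right ha.1 n3, mul_le_mul_of_nonneg_right ha.2 n3,
      mul_le_mul_of_nonneg_right hb.1 n2, mul_le_mul_of_nonneg_right hb.2 n2,
      mul_le_mul_of_nonneg_right hc.1 n1, mul_le_mul_of_nonneg_right hc.2 n1]
  have step : ∀ x e : ℤ, x * q + e = 0 → -4 ≤ e → e ≤ 4 → x = 0 ∧ e = 0 := by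
    intro x e h l u
    have he : e = 0 := Int.eq_zero_of_abs_lt_dvd (show q ∣ e from ⟨-x, by linear_combination h⟩) (by rw [abs_lt]; omega)
    refine ⟨?_, he⟩
    subst he
    exact (mul_eq_zero.1 (by simpa using h)).resolve_right (by omega)
  obtain ⟨e1, hd0⟩ := step (a * q ^ 2 + b * q + c) d (by linear_combination h0) hd.1 hd.2
  obtain ⟨e2, hc0⟩ := step (a * q + b) c (by linear_combination e1) hc.1 hc.2
  obtain ⟨e3, hb0⟩ := step a b e2 hb.1 hb.2
  exact ⟨e3, hb0, hc0, hd0⟩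

/-- what regularity needs of the exponents -/
noncomputable def goodAt (q : ℤ) : Bool :=
  (List.finRange 24).all fun r => decide (expo q r % tm q ≠ 0) &&
    (List.finRange 24).all fun s =>
      decide (r = s) || decide ((expo q r - expo q s) % tm q ≠ 0) ||
        (List.finRange 24).any fun u =>
          ((List.finRange 24).all fun v =>
            decide (v = u) || decide ((expo q v - expo q u) % tm q ≠ 0)) &&
          decide (pr chevD4 auxD4 r.val u.val ≠ pr chevD4 auxD4 s.val u.val)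

theorem good2 : goodAt 2 = true := by decide +kernel
theorem good3 : goodAt 3 = true := by decide +kernel
theorem good4 : goodAt 4 = true := by decide +kernel

theorem regular {q : ℕ} (hq : 2 ≤ q) (r : Fin 24) : ¬ tm q ∣ expo q r ∧
    ∀ s : Fin 24, tm q ∣ expo q r - expo q s → r ≠ s → ∃ u : Fin 24,
      (∀ v : Fin 24, tm q ∣ expo q v - expo q u → v = u) ∧
        pr chevD4 auxD4 r.val u.val ≠ pr chevD4 auxD4 s.val u.val := by
  by_cases h5 : 5 ≤ q
  · have h5' : (5 : ℤ) ≤ q := by exact_mod_cast h5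
    refine ⟨fun h => ?_, fun s h hne => ?_⟩
    · obtain ⟨a, b, c, d⟩ := digits h5' _ _ _ _ (coeff_bound r 0) (coeff_bound r 1)
        (coeff_bound r 2) (coeff_bound r 3) h
      obtain ⟨j, hj⟩ := coeff_ne r
      revert hj; fin_cases j <;> simp [a, b, c, d]
    · exfalso
      have h' : tm (q : ℤ) ∣ (ec r 0 - ec s 0) * (q : ℤ) ^ 3 + (ec r 1 - ec s 1) * (q : ℤ) ^ 2 +
          (ec r 2 - ec s 2) * (q : ℤ) + (ec r 3 - ec s 3) := by
        rwa [show expo q r - expo q s = _ from (by simp only [expo]; ring :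
          _ = (ec r 0 - ec s 0) * (q : ℤ) ^ 3 + (ec r 1 - ec s 1) * (q : ℤ) ^ 2 +
          (ec r 2 - ec s 2) * (q : ℤ) + (ec r 3 - ec s 3))] at h
      obtain ⟨a, b, c, d⟩ := digits h5' _ _ _ _ (diff_bound r s 0) (diff_bound r s 1)
        (diff_bound r s 2) (diff_bound r s 3) h'
      obtain ⟨j, hj⟩ := diff_ne r s hne
      revert hj; fin_cases j <;> simp [a, b, c, d]
  · have hg : goodAt q = true := by
      interval_cases q
      · exact good2
      · exact good3
      · exact good4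
    simp only [goodAt, List.all_eq_true, List.any_eq_true, List.mem_finRange, true_implies,
      Bool.and_eq_true, Bool.or_eq_true, decide_eq_true_eq, true_and,
      ← Int.dvd_iff_emod_eq_zero, ne_eq] at hg
    obtain ⟨h1, h2⟩ := hg r
    refine ⟨h1, fun s hs hne => ?_⟩
    rcases h2 s with (e | e) | ⟨u, hu, hp⟩
    · exact absurd e hne
    · exact absurd hs e
    · exact ⟨u, fun v hv => (hu v).resolve_right (fun e => e hv), hp⟩

end CfsgLib.Chev.D4Torus
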