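/-
The rank one subgroup of the central node of `D₄`.
-/
import Cfsg.Agent.Lib.Chev.Twist.Fam.D4
import Cfsg.Agent.Lib.Steinberg.RankOne
import Cfsg.Agent.Lib.KnownB.ChevField

set_option autoImplicit false
set_option maxRecDepth 100000

namespace CfsgLib.Chev.D4Torus

open Cfsg.Lie Matrix CfsgLib.Chev CfsgLib.KnownB.ChevField
open CfsgLib.Steinberg.R1Data (up dn closure_gens)
open CfsgLib.Steinberg (R1Data)
open scoped MatrixGroups

variable {F K : Type*} [Field F] [Field K]

theorem p2_lt : d4p2 < chevD4.nroots := by decide +kernel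
theorem m2_lt : d4m2 < chevD4.nroots := by decide +kernel
theorem neg_p2 : auxD4.neg d4p2 = d4m2 := by decide +kernel
theorem neg_p2' : chevD4.neg d4p2 = d4m2 := by decide +kernel
theorem simple_one : chevD4.simple 1 = d4p2 := by decide +kernel

/-- the homomorphism from `SL₂` of the central node -/
noncomputable def phi : SL(2, F) →* GL chevD4.Idx F :=
  (CfsgLib.Steinberg.exists_sl2 (F := F) stdD4.good d4p2 p2_lt).choose

theorem phi_up (t : F) : phi (up t) = xG stdD4.good d4p2 t :=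
  ((CfsgLib.Steinberg.exists_sl2 (F := F) stdD4.good d4p2 p2_lt).choose_spec (up t) t).1 rfl

theorem phi_dn (t : F) : phi (dn t) = xG stdD4.good d4m2 t := by
  rw [← neg_p2]
  exact ((CfsgLib.Steinberg.exists_sl2 (F := F) stdD4.good d4p2 p2_lt).choose_spec (dn t) t).2 rfl

theorem wS_eq : (R1Data.wS : SL(2, F)) = up 1 * dn (-1) * up 1 := by
  refine Subtype.ext ?_
  ext p q
  fin_cases p <;> fin_cases q <;>
    simp [SpecialLinearGroup.coe_mul, Matrix.mul_apply, Fin.sum_univ_two]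

theorem gen_induction {S : Subgroup SL(2, F)} (hu : ∀ t, up t ∈ S) (hd : ∀ t, dn t ∈ S)
    (y : SL(2, F)) : y ∈ S := by
  have h : (⊤ : Subgroup SL(2, F)) ≤ S := by
    rw [← closure_gens, Subgroup.closure_le]
    rintro _ (⟨t, rfl⟩ | rfl)
    · exact hu t
    · rw [wS_eq]; exact mul_mem (mul_mem (hu 1) (hd _)) (hu 1)
  exact h trivial

theorem hom_ext {G : Type*} [Group G] {f g : SL(2, F) →* G} (hu : ∀ t, f (up t) = g (up t))
    (hd : ∀ t, f (dn t) = g (dn t)) (y : SL(2, F)) : f y = g y :=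
  gen_induction (S := f.eqLocus g) hu hd y

theorem phi_mem (y : SL(2, F)) : phi y ∈ chevD4.group F :=
  gen_induction (S := (chevD4.group F).comap phi)
    (fun t => by show phi (up t) ∈ chevD4.group F; rw [phi_up]; exact xG_mem_group _ _ _)
    (fun t => by show phi (dn t) ∈ chevD4.group F; rw [phi_dn]; exact xG_mem_group _ _ _) y

theorem map_up (f : F →+* K) (t : F) : SpecialLinearGroup.map f (up t) = up (f t) := by
  refine Subtype.ext ?_
  ext i j
  fin_cases i <;> fin_cases j <;> simp [SpecialLinearGroup.map_apply_coe]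

theorem map_dn (f : F →+* K) (t : F) : SpecialLinearGroup.map f (dn t) = dn (f t) := by
  refine Subtype.ext ?_
  ext i j
  fin_cases i <;> fin_cases j <;> simp [SpecialLinearGroup.map_apply_coe]

theorem map_phi (f : F →+* K) (y : SL(2, F)) :
    Matrix.GeneralLinearGroup.map f (phi y) = phi (SpecialLinearGroup.map f y) :=
  hom_ext (f := (Matrix.GeneralLinearGroup.map f).comp phi)
    (g := phi.comp (SpecialLinearGroup.map f))
    (fun t => by simp [phi_up, map_xG, map_up]) (fun t => by simp [phi_dn, map_xG, map_dn]) y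

/-- the matrix of `y` conjugated by `diag(e, 1)` -/
def dmat (e : Fˣ) (y : Matrix (Fin 2) (Fin 2) F) : Matrix (Fin 2) (Fin 2) F :=
  !![y 0 0, (e : F) * y 0 1; ((e⁻¹ : Fˣ) : F) * y 1 0, y 1 1]

theorem dmat_det (e : Fˣ) (y : Matrix (Fin 2) (Fin 2) F) : (dmat e y).det = y.det := by
  have := e.ne_zero
  simp [dmat, Matrix.det_fin_two]
  field_simp

theorem dmat_mul (e : Fˣ) (x y : Matrix (Fin 2) (Fin 2) F) :
    dmat e (x * y) = dmat e x * dmat e y := by
  have := e.ne_zero
  ext i j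
  fin_cases i <;> fin_cases j <;> simp [dmat, Matrix.mul_apply, Fin.sum_univ_two] <;> field_simp

theorem dmat_one (e : Fˣ) : dmat e (1 : Matrix (Fin 2) (Fin 2) F) = 1 := by
  ext i j
  fin_cases i <;> fin_cases j <;> simp [dmat]

/-- conjugation by `diag(e, 1)` -/
def dtw (e : Fˣ) : SL(2, F) →* SL(2, F) where
  toFun y := ⟨dmat e y.1, (dmat_det e y.1).trans y.2⟩
  map_one' := Subtype.ext (dmat_one e)
  map_mul' x y := Subtype.ext (dmat_mul e x.1 y.1)

theorem dtw_val (e : Fˣ) (y : SL(2, F)) : (dtw e y).1 = dmat e y.1 := rfl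

theorem dtw_up (e : Fˣ) (t : F) : dtw e (up t) = up ((e : F) * t) := by
  refine Subtype.ext ?_
  ext i j
  fin_cases i <;> fin_cases j <;> simp [dtw_val, dmat]

theorem dtw_dn (e : Fˣ) (t : F) : dtw e (dn t) = dn (((e⁻¹ : Fˣ) : F) * t) := by
  refine Subtype.ext ?_
  ext i j
  fin_cases i <;> fin_cases j <;> simp [dtw_val, dmat]

theorem tor_conj_phi (c : Fin chevD4.rank → Fˣ) (y : SL(2, F)) :
    tor chevD4 auxD4 c * phi y * (tor chevD4 auxD4 c)⁻¹ =
      phi (dtw (chi chevD4 auxD4 c d4p2) y) := by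
  refine hom_ext (f := (MulAut.conj (tor chevD4 auxD4 c)).toMonoidHom.comp phi)
    (g := phi.comp (dtw (chi chevD4 auxD4 c d4p2))) (fun t => ?_) (fun t => ?_) y
  · simp [phi_up, dtw_up, tor_conj_xG stdD4.good c p2_lt]
  · have h := tor_conj_xG stdD4.good c m2_lt t
    rw [show chi chevD4 auxD4 c d4m2 = (chi chevD4 auxD4 c d4p2)⁻¹ by
      rw [← neg_p2]; exact chi_neg stdD4.good c p2_lt] at h
    simpa [phi_dn, dtw_dn] using h

/-- the torus coordinate of the central node -/
noncomputable abbrev sgl (u : Fˣ) : Fin chevD4.rank → Fˣ := Pi.mulSingle (D43.ix 1) u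

theorem phi_w (u : F) : phi (up u * dn (-u⁻¹) * up u) = nG stdD4.good d4p2 u := by
  rw [map_mul, map_mul, phi_up, phi_dn, nG, neg_p2']

theorem nG_eq (u : Fˣ) :
    nG stdD4.good d4p2 (u : F) = tor chevD4 auxD4 (sgl u) * nS F stdD4.good 1 := by
  have h1 := hG_simple (F := F) stdD4.good (D43.ix 1) u
  have h2 : chevD4.simple (D43.ix 1).val = d4p2 := simple_one
  rw [h2] at h1
  rw [sgl, ← h1, hG, nG_neg stdD4.good p2_lt, nS, simple_one]
  group

/-- `diag(u, u⁻¹)` -/
def dSL (u : Fˣ) : SL(2, F) :=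
  ⟨!![(u : F), 0; 0, ((u⁻¹ : Fˣ) : F)], by simp [Matrix.det_fin_two]⟩

theorem phi_dSL (u : Fˣ) : phi (dSL u) = tor chevD4 auxD4 (sgl u) := by
  have e : dSL u = up (u : F) * dn (-(u : F)⁻¹) * up (u : F) *
      (up (-1) * dn (-(-1 : F)⁻¹) * up (-1)) := by
    refine Subtype.ext ?_
    ext i j
    fin_cases i <;> fin_cases j <;>
      simp [dSL, SpecialLinearGroup.coe_mul, Matrix.mul_apply, Fin.sum_univ_two]
  rw [e, map_mul, phi_w, phi_w, nG_eq, nG_neg stdD4.good p2_lt, nS, simple_one]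
  group

theorem maps_phi {σ : F →+* F} (y : SL(2, F)) :
    (D43.tw σ).Maps (phi y) (phi (SpecialLinearGroup.map σ y)) := by
  have hdata : ∀ r ∈ [d4p2, d4m2],
      r < chevD4.nroots ∧ foldD43.r r = r ∧ symD4a.e r = 1 := by decide +kernel
  have hr : ∀ r ∈ [d4p2, d4m2], ∀ t : F,
      (D43.tw σ).Maps (xG stdD4.good r t) (xG stdD4.good r (σ t)) := by
    intro r hr t
    obtain ⟨h1, h2, h3⟩ := hdata r hr
    have := (D43.tw σ).maps_xG h1 t
    rwa [h2, D43.phi_eq h3] at this
  let S : Subgroup SL(2, F) :=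
    { carrier := {y | (D43.tw σ).Maps (phi y) (phi (SpecialLinearGroup.map σ y))}
      one_mem' := by simpa using (D43.tw σ).maps_one
      mul_mem' := fun {a b} ha hb => by
        simpa [map_mul] using Twist.Maps.mul _ ha hb
      inv_mem' := fun {a} ha => by
        simpa [map_inv] using Twist.Maps.inv _ ha }
  refine gen_induction (S := S) (fun t => ?_) (fun t => ?_) y
  · show (D43.tw σ).Maps (phi (up t)) (phi (SpecialLinearGroup.map σ (up t)))
    rw [map_up, phi_up, phi_up]; exact hr _ (by simp) t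
  · show (D43.tw σ).Maps (phi (dn t)) (phi (SpecialLinearGroup.map σ (dn t)))
    rw [map_dn, phi_dn, phi_dn]; exact hr _ (by simp) t

/-- the twisted group stays fixed over a larger field -/
theorem map_twisted_fix {σ : K →+* K} (f : F →+* K) {q : ℕ} (hσ : ∀ x, σ x = x ^ q)
    (hinv : ∀ t : F, ((t ^ q) ^ q) ^ q = t) {y : GL chevD4.Idx F} (hy : y ∈ twistedD4 F q) :
    Matrix.GeneralLinearGroup.map f y ∈ (D43.tw σ).fix := by
  suffices h : twistedD4 F q ≤ (D43.tw σ).fix.comap (Matrix.GeneralLinearGroup.map f) from h hy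
  rw [twistedD4, genSubgroup_eq stdD4.good, Subgroup.closure_le]
  rintro y ⟨w, hw, rfl⟩
  rcases hw with ⟨t, ht, r, hr, rfl⟩ | ⟨t, ⟨r, s, u⟩, hrs, rfl⟩
  · simp only [List.map_cons, List.map_nil, List.prod_cons, List.prod_nil, mul_one,
      SetLike.mem_coe, Subgroup.mem_comap, map_xG]
    have : ∀ r ∈ [d4p2, d4m2],
        r < chevD4.nroots ∧ foldD43.r r = r ∧ symD4a.e r = 1 := by decide +kernel
    obtain ⟨h1, h2, h3⟩ := this r hr
    exact D43.fix_root h1 h2 h3 (by rw [hσ, ← map_pow, ht])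
  · simp only [List.map_cons, List.map_nil, List.prod_cons, List.prod_nil, mul_one,
      SetLike.mem_coe, Subgroup.mem_comap, map_mul, map_xG]
    obtain ⟨c1, c2, -, lr, ls, lu, hr', hs', hu', er, es, eu⟩ := D43.trip_data _ hrs
    dsimp only at hr' hs' hu' er es eu c1 c2 lr ls lu ⊢
    have hm := Twist.Maps.mul _ (Twist.Maps.mul _ ((D43.tw σ).maps_xG lr (f t))
      ((D43.tw σ).maps_xG ls (f (t ^ q)))) ((D43.tw σ).maps_xG lu (f (t ^ q ^ 2)))
    rw [hr', hs', hu', D43.phi_eq er, D43.phi_eq es, D43.phi_eq eu, hσ, hσ, hσ, ← map_pow,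
      ← map_pow, ← map_pow] at hm
    rw [show (t ^ q ^ 2) ^ q = t by rw [sq, pow_mul, hinv],
      show (t ^ q) ^ q = t ^ q ^ 2 by rw [sq, pow_mul]] at hm
    have hc : Commute (xG stdD4.good r (f t))
        (xG stdD4.good s (f (t ^ q)) * xG stdD4.good u (f (t ^ q ^ 2))) :=
      (commute_xG stdD4 c1 _ _).mul_right (commute_xG stdD4 c2 _ _)
    rw [← hc.eq, mul_assoc] at hm
    exact hm

end CfsgLib.Chev.D4Torus
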