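/-
The cyclic self-centralising torus of order `(q³ - 1)(q + 1)` of twisted `D₄`.
-/
import Cfsg.Agent.Lib.Chev.D4Torus.Rank1
import Cfsg.Agent.Lib.Chev.D4Torus.Expo
import Cfsg.Agent.Lib.Chev.RegularTorus
import Cfsg.Agent.Lib.Chev.G2.SingerTorus

set_option autoImplicit false
set_option maxRecDepth 100000

namespace CfsgLib.Chev.D4Torus

open Cfsg.Lie Matrix CfsgLib.Chev CfsgLib.KnownB.ChevField
open CfsgLib.Steinberg.R1Data (up dn)
open CfsgLib.Chev.D43 (ix)
open scoped MatrixGroups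

variable {K L : Type*} [Field K] [Field L]

/-- the torus of order `(q³ - 1)(q + 1)` -/
noncomputable def cz (q : ℕ) : Lˣ →* (Fin chevD4.rank → Lˣ) where
  toFun z := (![z ^ (q + 1), z ^ (q ^ 2 + q + 1), z ^ (q ^ 2 + q), z ^ (q ^ 3 + q ^ 2)] :
    Fin 4 → Lˣ)
  map_one' := by refine D43.ext_ix fun k => ?_; fin_cases k <;> exact one_pow _
  map_mul' a b := by refine D43.ext_ix fun k => ?_; fin_cases k <;> exact mul_pow _ _ _

theorem cz_ix (q : ℕ) (z : Lˣ) : cz q z (ix 0) = z ^ (q + 1) ∧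
    cz q z (ix 1) = z ^ (q ^ 2 + q + 1) ∧ cz q z (ix 2) = z ^ (q ^ 2 + q) ∧
    cz q z (ix 3) = z ^ (q ^ 3 + q ^ 2) := ⟨rfl, rfl, rfl, rfl⟩

theorem cz_exp (q : ℕ) (z : Lˣ) (i : Fin 4) : cz q z (ix i) = z ^ cexp (q : ℤ) i := by
  obtain ⟨h0, h1, h2, h3⟩ := cz_ix q z
  fin_cases i
  · refine h0.trans ?_
    rw [← zpow_natCast]; congr 1; simp [cexp, co]
  · refine h1.trans ?_
    rw [← zpow_natCast]; congr 1; simp [cexp, co]
  · refine h2.trans ?_
    rw [← zpow_natCast]; congr 1; simp [cexp, co]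
  · refine h3.trans ?_
    rw [← zpow_natCast]; congr 1; simp [cexp, co]

/-- coordinatewise equality -/
theorem ext4 {a b : Fin chevD4.rank → Lˣ} (h0 : (a (ix 0) : L) = b (ix 0))
    (h1 : (a (ix 1) : L) = b (ix 1)) (h2 : (a (ix 2) : L) = b (ix 2))
    (h3 : (a (ix 3) : L) = b (ix 3)) : a = b :=
  D43.ext_ix fun k => Units.ext (by fin_cases k <;> assumption)

theorem chi_cz (q : ℕ) (z : Lˣ) (r : Fin 24) :
    chi chevD4 auxD4 (cz q z) r.val = z ^ expo q r := by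
  rw [← sum_cexp, chi]
  show ∏ i : Fin 4, cz q z (ix i) ^ auxD4.cart i.val r.val = _
  simp only [Fin.prod_univ_four, Fin.sum_univ_four, cz_exp, _root_.zpow_add, _root_.zpow_mul]

theorem eq_one_of_pow {M : Type*} [CommGroup M] {q : ℕ} {z : M} (h1 : z ^ (q + 1) = 1)
    (h2 : z ^ (q ^ 2 + q + 1) = 1) : z = 1 := by
  rwa [show q ^ 2 + q + 1 = (q + 1) * q + 1 by ring, pow_succ, pow_mul, h1, one_pow, one_mul] at h2

theorem tor_cz_inj {q : ℕ} {σ : L →+* L} (hσ : ∀ x, σ x = x ^ q) :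
    Function.Injective (fun z : Lˣ => (tor chevD4 auxD4 (cz q z) : GL chevD4.Idx L)) := by
  suffices h : Function.Injective ((tor chevD4 auxD4).comp (cz q) : Lˣ →* GL chevD4.Idx L) from h
  rw [injective_iff_map_eq_one]
  intro z hz
  obtain ⟨a2, hb, -, -, hp⟩ := D43.ker_form (z := cz q z) hz
  obtain ⟨h0, h1, h2, h3⟩ := cz_ix q z
  rw [h0] at a2
  rw [h1] at hb
  rw [h0, h2, h3] at hp
  have hq : (z ^ (q + 1)) ^ q = z ^ (q + 1) := Units.ext (by
    rw [Units.val_pow_eq_pow_val, ← hσ]; exact D43.sgn_fix a2)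
  rw [show z ^ (q ^ 2 + q) = z ^ (q + 1) by rw [← hq, ← pow_mul]; congr 1; ring,
    show z ^ (q ^ 3 + q ^ 2) = z ^ (q + 1) by
      conv_rhs => rw [← hq, ← hq]
      rw [← pow_mul, ← pow_mul]; congr 1; ring,
    ← pow_two, a2, one_mul] at hp
  exact eq_one_of_pow hp hb

/-- the diagonalisation of the companion matrix -/
theorem companion_eq (f : K →+* L) (b : L) (δ : Lˣ) {bu : Lˣ} {D T : K}
    (hδ : (δ : L) = b * bu) (hbu : (bu : L) ≠ 0) (hD : f D = δ) (hT : f T = bu + b) (κ : L) :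
    dmat δ !![κ, κ * bu; 1, b] *
      (!![1, -D; 0, 1] * !![1, 0; D⁻¹, 1] * !![1, -D; 0, 1] * !![1, T; 0, 1]).map f =
    !![(bu : L), 0; 0, ((bu⁻¹ : Lˣ) : L)] * !![κ, κ * bu; 1, b] := by
  have hd0 : (δ : L) ≠ 0 := δ.ne_zero
  have hb : b ≠ 0 := fun e => hd0 (by rw [hδ, e, zero_mul])
  have hv : ((δ⁻¹ : Lˣ) : L) = b⁻¹ * (bu : L)⁻¹ := by
    rw [Units.val_inv_eq_inv_val, hδ, mul_inv]
  simp only [dmat, hv]
  ext i j
  fin_cases i <;> fin_cases j <;>
    simp [Matrix.mul_apply, Fin.sum_univ_two, hD, hT, hδ] <;> field_simp <;> ring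

/-- the Frobenius image of the diagonalising matrix -/
theorem frob_eq (f : L →+* L) {κ b b' : L} (hk : f κ = -κ) (hb : f b = b') (hb' : f b' = b)
    (hκ : κ ≠ 0) :
    (!![κ, κ * b; 1, b']).map f =
      !![1, -κ; 0, 1] * !![1, 0; -(-κ)⁻¹, 1] * !![1, -κ; 0, 1] * !![κ, κ * b; 1, b'] := by
  ext i j
  fin_cases i <;> fin_cases j <;>
    simp [Matrix.mul_apply, Fin.sum_univ_two, hk, hb, hb'] <;> field_simp <;> ring

/-- the twisted torus -/
theorem twist_solve {q : ℕ} {σ : L →+* L} (hσ : ∀ x, σ x = x ^ q) (hq : 2 ≤ q) {u : Lˣ}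
    {t : Fin chevD4.rank → Lˣ}
    (ht : (D43.tw σ).Maps (tor chevD4 auxD4 t)
      (nG stdD4.good d4p2 (u : L) * tor chevD4 auxD4 t * (nG stdD4.good d4p2 (u : L))⁻¹)) :
    ∃ z : Lˣ, z ^ ((q ^ 3 - 1) * (q + 1)) = 1 ∧
      (tor chevD4 auxD4 t : GL chevD4.Idx L) = tor chevD4 auxD4 (cz q z) := by
  classical
  set s : Fin chevD4.rank → Lˣ := t * sgl (∏ j, t j ^ (-auxD4.cart j.val (chevD4.simple 1))) with hs
  have hconj : nG stdD4.good d4p2 (u : L) * tor chevD4 auxD4 t * (nG stdD4.good d4p2 (u : L))⁻¹ =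
      tor chevD4 auxD4 s := by
    rw [nG_eq, show tor chevD4 auxD4 (sgl u) * nS L stdD4.good 1 * tor chevD4 auxD4 t *
        (tor chevD4 auxD4 (sgl u) * nS L stdD4.good 1)⁻¹ =
      tor chevD4 auxD4 (sgl u) * (nS L stdD4.good 1 * tor chevD4 auxD4 t * (nS L stdD4.good 1)⁻¹) *
        (tor chevD4 auxD4 (sgl u))⁻¹ by group,
      nS_conj_tor stdD4.good (i := 1) (show 1 < chevD4.rank by decide) t, tor_mul_comm,
      mul_inv_cancel_right]
    rfl
  rw [hconj] at ht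
  have heq := Twist.Maps.fun_eq _ ((D43.tw σ).maps_theta t) ht
  set e : Fin chevD4.rank → Lˣ := s * ((D43.tw σ).theta t)⁻¹ with he
  have he1 : (tor chevD4 auxD4 e : GL chevD4.Idx L) = 1 := by
    rw [he, map_mul, map_inv, heq, mul_inv_cancel]
  have hw : (tor chevD4 auxD4 ((D43.tw σ).theta e) : GL chevD4.Idx L) = 1 := by
    refine Twist.Maps.fun_eq _ ((D43.tw σ).maps_theta e) ?_
    rw [he1]; exact (D43.tw σ).maps_one
  obtain ⟨e02, e1, e22, e32, hp⟩ := D43.ker_form he1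
  obtain ⟨u0, u1, u2, u3⟩ := D43.theta_ix (σ := σ) t
  have hse : ∀ k : Fin 4, s (ix k) = e (ix k) * (D43.tw σ).theta t (ix k) := fun k => by
    rw [he]; exact (inv_mul_cancel_right _ _).symm
  have hne : ∀ i k : Fin 4, i ≠ k → ix i ≠ ix k := fun i k h e => h e
  have hs0 : ∀ k : Fin 4, k ≠ 1 → s (ix k) = t (ix k) := fun k hk => by
    rw [hs, Pi.mul_apply, sgl, Pi.mulSingle_eq_of_ne (hne k 1 hk), mul_one]
  have hs1 : s (ix 1) = t (ix 1) * (t (ix 0) * (t (ix 1))⁻¹ ^ 2 * t (ix 2) * t (ix 3)) := by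
    rw [hs, Pi.mul_apply, sgl, Pi.mulSingle_eq_same]
    congr 1
    show ∏ j : Fin 4, t (ix j) ^ (-auxD4.cart j.val (chevD4.simple 1)) = _
    have hc : ∀ j : Fin 4, auxD4.cart j.val (chevD4.simple 1) = (![-1, 2, -1, -1] : Fin 4 → ℤ) j := by
      decide +kernel
    rw [Fin.prod_univ_four, hc, hc, hc, hc]
    simp [_root_.zpow_neg, zpow_ofNat]
  have E0 := congrArg Units.val ((hs0 0 (by decide)).symm.trans (hse 0))
  have E2 := congrArg Units.val ((hs0 2 (by decide)).symm.trans (hse 2))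
  have E3 := congrArg Units.val ((hs0 3 (by decide)).symm.trans (hse 3))
  have E1 := congrArg Units.val (hs1.symm.trans (hse 1))
  simp only [Units.val_mul] at E0 E1 E2 E3
  rw [u0] at E0
  rw [u2] at E2
  rw [u3] at E3
  rw [u1, e1, Units.val_one, one_mul] at E1
  -- the strict parameters
  obtain ⟨w0, w1, w2, w3⟩ := D43.theta_ix (σ := σ) e
  rw [D43.sgn_fix e32] at w0
  rw [D43.sgn_fix e02] at w2
  rw [D43.sgn_fix e22] at w3
  rw [e1, Units.val_one, map_one] at w1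
  set T : Fin chevD4.rank → Lˣ := t * (D43.tw σ).theta e with hT
  have hTt : (tor chevD4 auxD4 T : GL chevD4.Idx L) = tor chevD4 auxD4 t := by
    rw [hT, map_mul, hw, mul_one]
  have T0 : (T (ix 0) : L) = t (ix 0) * e (ix 3) := by rw [hT, Pi.mul_apply, Units.val_mul, w0]
  have T1 : (T (ix 1) : L) = t (ix 1) := by rw [hT, Pi.mul_apply, Units.val_mul, w1, mul_one]
  have T2 : (T (ix 2) : L) = t (ix 2) * e (ix 0) := by rw [hT, Pi.mul_apply, Units.val_mul, w2]
  have T3 : (T (ix 3) : L) = t (ix 3) * e (ix 2) := by rw [hT, Pi.mul_apply, Units.val_mul, w3]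
  have hp' : (e (ix 0) : L) * e (ix 2) * e (ix 3) = 1 := by
    rw [← Units.val_mul, ← Units.val_mul, hp, Units.val_one]
  have sq1 : ∀ a : Lˣ, a ^ 2 = 1 → (a : L) * a = 1 := fun a ha => by
    rw [← Units.val_mul, ← sq, ha, Units.val_one]
  have A2 := sq1 _ e02
  have C2 := sq1 _ e22
  have D2 := sq1 _ e32
  have r2 : (T (ix 2) : L) = (T (ix 0) : L) ^ q := by
    rw [← hσ, T0, map_mul, D43.sgn_fix e32, T2, E2]
    linear_combination σ (t (ix 0) : L) * (e (ix 3) : L) * hp' -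
      σ (t (ix 0) : L) * (e (ix 0) : L) * (e (ix 2) : L) * D2
  have r3 : (T (ix 3) : L) = (T (ix 2) : L) ^ q := by
    rw [← hσ, T2, map_mul, D43.sgn_fix e02, T3, E3]
    linear_combination σ (t (ix 2) : L) * (e (ix 0) : L) * hp' -
      σ (t (ix 2) : L) * (e (ix 2) : L) * (e (ix 3) : L) * A2
  have r0 : (T (ix 0) : L) = (T (ix 3) : L) ^ q := by
    rw [← hσ, T3, map_mul, D43.sgn_fix e22, T0, E0]
    linear_combination σ (t (ix 3) : L) * (e (ix 2) : L) * hp' -
      σ (t (ix 3) : L) * (e (ix 0) : L) * (e (ix 3) : L) * C2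
  have r1 : (T (ix 1) : L) ^ (q + 1) = T (ix 0) * T (ix 2) * T (ix 3) := by
    rw [pow_succ, ← hσ, T0, T1, T2, T3, ← E1]
    simp only [Units.val_pow_eq_pow_val, Units.val_inv_eq_inv_val]
    have h0 := (t (ix 1)).ne_zero
    field_simp
    linear_combination (-1 : L) * hp'
  refine ⟨T (ix 1) / T (ix 0) ^ q, ?_, ?_⟩
  · have hbase : ((T (ix 1) / T (ix 0) ^ q) ^ (q + 1) : Lˣ) = T (ix 0) := by
      apply Units.ext
      rw [div_pow, Units.val_div_eq_div_val, Units.val_pow_eq_pow_val, Units.val_pow_eq_pow_val,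
        r1, r3, r2, Units.val_pow_eq_pow_val, ← pow_mul, ← pow_mul,
        div_eq_iff (pow_ne_zero _ (T (ix 0)).ne_zero)]
      ring
    rw [mul_comm, pow_mul, hbase]
    refine mul_left_cancel (a := T (ix 0)) ?_
    rw [← pow_succ', Nat.sub_add_cancel (Nat.one_le_pow 3 q (by omega)), mul_one]
    apply Units.ext
    rw [Units.val_pow_eq_pow_val, show q ^ 3 = q * q * q by ring, pow_mul, pow_mul, ← r2, ← r3, ← r0]
  · rw [← hTt]
    congr 1
    obtain ⟨h0, h1, h2, h3⟩ := cz_ix q (T (ix 1) / T (ix 0) ^ q)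
    have hbase : (((T (ix 1) / T (ix 0) ^ q) : Lˣ) : L) ^ (q + 1) = T (ix 0) := by
      rw [Units.val_div_eq_div_val, Units.val_pow_eq_pow_val, div_pow, r1, r3, r2,
        ← pow_mul, ← pow_mul, div_eq_iff (pow_ne_zero _ (T (ix 0)).ne_zero)]
      ring
    refine ext4 ?_ ?_ ?_ ?_
    · rw [h0, Units.val_pow_eq_pow_val, hbase]
    · simp only [h1, Units.val_pow_eq_pow_val]
      rw [show q ^ 2 + q + 1 = (q + 1) * q + 1 by ring, pow_succ, pow_mul, hbase,
        Units.val_div_eq_div_val, Units.val_pow_eq_pow_val,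
        mul_div_cancel₀ _ (pow_ne_zero _ (T (ix 0)).ne_zero)]
    · simp only [h2, Units.val_pow_eq_pow_val]
      rw [show q ^ 2 + q = (q + 1) * q by ring, pow_mul, hbase, r2]
    · simp only [h3, Units.val_pow_eq_pow_val]
      rw [show q ^ 3 + q ^ 2 = (q + 1) * q * q by ring, pow_mul, pow_mul, hbase, r3, r2]

/-- the torus element over the small field and its diagonalisation -/
theorem torus (K : Type*) [Field K] [Fintype K] {q : ℕ} (hq : IsPrimePow q)
    (hK : Fintype.card K = q ^ 3) :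
    ∃ H : Subgroup ↥(twistedD4 K q), IsCyclic ↥H ∧ Nat.card ↥H = (q ^ 3 - 1) * (q + 1) ∧
      Subgroup.centralizer (H : Set ↥(twistedD4 K q)) = H := by
  classical
  have hq2 : 2 ≤ q := hq.one_lt
  obtain ⟨p, _⟩ := CharP.exists K
  haveI : Fact p.Prime := ⟨CharP.char_is_prime K p⟩
  let L := FiniteField.Extension K p 2
  have hL : Nat.card L = q ^ 6 := by
    rw [FiniteField.natCard_extension, Nat.card_eq_fintype_card, hK, ← pow_mul]
  haveI : Finite L := Nat.finite_of_card_ne_zero (by rw [hL]; positivity)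
  haveI := Fintype.ofFinite L
  have hLc : Fintype.card L = q ^ 6 := by rw [← Nat.card_eq_fintype_card, hL]
  let ι : K →+* L := algebraMap K L
  obtain ⟨σK, hσK⟩ := exists_powHom (k := 3) hq (by norm_num) hK
  obtain ⟨σ, hσ⟩ := exists_powHom (k := 6) hq (by norm_num) hLc
  have hinvK : ∀ t : K, ((t ^ q) ^ q) ^ q = t := fun t => by
    have := D43.invol hσK hK t
    rwa [hσK, hσK, hσK] at this
  set m := (q ^ 3 - 1) * (q + 1) with hm
  have hfac : q ^ 6 - 1 = (q ^ 2 + 1 - q) * m := by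
    have h3 : q * 1 ≤ q * q := Nat.mul_le_mul_left q (by omega)
    zify [Nat.one_le_pow 3 q (by omega), Nat.one_le_pow 6 q (by omega),
      show q ≤ q ^ 2 + 1 by rw [sq]; omega, hm]
    ring
  obtain ⟨γ, hγ⟩ := IsCyclic.exists_ofOrder_eq_natCard (α := Lˣ)
  rw [Nat.card_units, hL, hfac] at hγ
  have hk0 : q ^ 2 + 1 - q ≠ 0 := by
    have : q ≤ q ^ 2 := Nat.le_self_pow (by norm_num) q
    omega
  set z := γ ^ (q ^ 2 + 1 - q) with hz
  have hoz : orderOf z = m := by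
    rw [hz, orderOf_pow' _ hk0, hγ, Nat.gcd_mul_right_left,
      Nat.mul_div_cancel_left _ (by omega)]
  have hzm : z ^ m = 1 := hoz ▸ pow_orderOf_eq_one z
  clear_value z
  -- the parameters
  set β : Lˣ := z ^ (q ^ 2 + q + 1) with hβ
  set δ : Lˣ := β ^ (q + 1) with hδ
  have hβq2 : β ^ (q * q) = β := by
    have h1 : β ^ (q * q - 1) = 1 := by
      have e : (q ^ 2 + q + 1) * (q * q - 1) = m := by
        zify [Nat.one_le_pow 3 q (by omega), show 1 ≤ q * q by nlinarith, hm]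
        ring
      rw [hβ, ← pow_mul, e, hzm]
    conv_rhs => rw [← one_mul β, ← h1, ← pow_succ, Nat.sub_add_cancel (show 1 ≤ q * q by nlinarith)]
  have hβne : (β : L) ^ q ≠ β := by
    intro h
    have h' : β ^ q = β := Units.ext (by rw [Units.val_pow_eq_pow_val, h])
    have e : q ^ 3 - 1 + (q ^ 2 + q + 1) = (q ^ 2 + q + 1) * q := by
      zify [Nat.one_le_pow 3 q (by omega)]
      ring
    rw [hβ, ← pow_mul, ← e, pow_add] at h'
    have h1 : z ^ (q ^ 3 - 1) = 1 := mul_eq_right.1 h'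
    have h2 := orderOf_dvd_of_pow_eq_one h1
    rw [hoz] at h2
    have hpos : 0 < q ^ 3 - 1 := by
      have : q ≤ q ^ 3 := Nat.le_self_pow (by norm_num) q
      omega
    have := Nat.le_of_dvd hpos h2
    rw [hm] at this
    have : (q ^ 3 - 1) * (1 + 1) ≤ (q ^ 3 - 1) * (q + 1) := Nat.mul_le_mul_left _ (by omega)
    omega
  have hδfix : (δ : L) ^ q = δ := by
    rw [← Units.val_pow_eq_pow_val, hδ, ← pow_mul, show (q + 1) * q = q * q + q by ring, pow_add,
      hβq2, pow_succ, mul_comm]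
  have hTfix : ((β : L) + (β : L) ^ q) ^ q = (β : L) + (β : L) ^ q := by
    rw [← hσ, map_add, map_pow, hσ, ← pow_mul, ← Units.val_pow_eq_pow_val β (q * q), hβq2,
      add_comm]
  have toK : ∀ x : L, x ^ q = x → ∃ y : K, y ^ q = y ∧ ι y = x := by
    intro x hx
    obtain ⟨y, hy⟩ := G2.exists_root ι (q := q ^ 3) hK x (by
      rw [pow_succ q 2, sq, pow_mul, pow_mul, hx, hx, hx])
    exact ⟨y, ι.injective (by rw [map_pow, hy, hx]), hy⟩
  obtain ⟨T0, hT0, hT0'⟩ := toK _ hTfix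
  obtain ⟨D0, hD0, hD0'⟩ := toK _ hδfix
  obtain ⟨a0, ha0⟩ := G2.exists_root ι (q := q ^ 3) hK ((z ^ (q + 1) : Lˣ) : L) (by
    have e : (q + 1) * q ^ 3 = m + (q + 1) := by
      zify [Nat.one_le_pow 3 q (by omega), hm]
      ring
    rw [← Units.val_pow_eq_pow_val, ← pow_mul, e, pow_add, hzm, one_mul])
  have ha00 : a0 ≠ 0 := fun h => (z ^ (q + 1)).ne_zero (by rw [← ha0, h, map_zero])
  -- the element over the small field
  let aU : Kˣ := Units.mk0 a0 ha00
  let d : Fin chevD4.rank → Kˣ := (![aU, 1, Units.map σK.toMonoidHom aU,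
    Units.map σK.toMonoidHom (Units.map σK.toMonoidHom aU)] : Fin 4 → Kˣ)
  let A : SL(2, K) := up (-D0) * dn D0⁻¹ * up (-D0) * up T0
  have hd : tor chevD4 auxD4 d ∈ twistedD4 K q := by
    refine D43.diag_le hσK ?_
    rw [D43.diag_eq]
    exact ⟨d, (D43.thetaFix_iff d).2 ⟨D43.invol hσK hK a0, map_one σK, rfl, rfl⟩, rfl⟩
  have hA : phi A ∈ twistedD4 K q := by
    have hfU : ∀ t : K, t ^ q = t → phi (up t) ∈ twistedD4 K q := fun t ht => by
      rw [phi_up]; exact D43.word1 hσK (by simp) (by rw [hσK, ht])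
    have hfD : ∀ t : K, t ^ q = t → phi (dn t) ∈ twistedD4 K q := fun t ht => by
      rw [phi_dn]; exact D43.word1 hσK (by simp) (by rw [hσK, ht])
    have hn : (-D0) ^ q = -D0 := by rw [← hσK, map_neg, hσK, hD0]
    simp only [A, map_mul]
    exact mul_mem (mul_mem (mul_mem (hfU _ hn) (hfD _ (by rw [inv_pow, hD0]))) (hfU _ hn)) (hfU _ hT0)
  let h : ↥(twistedD4 K q) := ⟨tor chevD4 auxD4 d * phi A, mul_mem hd hA⟩
  -- diagonalisation
  obtain ⟨κ, hκ⟩ : ∃ κ : L, κ = ((β : L) ^ q - β)⁻¹ := ⟨_, rfl⟩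
  have hβ' : (β : L) ^ q - β ≠ 0 := sub_ne_zero.2 hβne
  have hκ0 : κ ≠ 0 := hκ ▸ inv_ne_zero hβ'
  have hκi : κ * ((β : L) ^ q - β) = 1 := by rw [hκ, inv_mul_cancel₀ hβ']
  let Q : SL(2, L) := ⟨!![κ, κ * β; 1, (β : L) ^ q], by
    rw [Matrix.det_fin_two]; simp; linear_combination hκi⟩
  set dL : Fin chevD4.rank → Lˣ := fun i => Units.map (ι : K →* L) (d i) with hdL
  have hdL' : dL * sgl β = cz q z := by
    have hσι : ∀ x : K, ι (σK x) = ι x ^ q := fun x => by rw [hσK, map_pow]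
    obtain ⟨h0, h1, h2, h3⟩ := cz_ix q z
    refine ext4 ?_ ?_ ?_ ?_ <;> rw [Pi.mul_apply, Units.val_mul]
    · rw [sgl, Pi.mulSingle_eq_of_ne (show ix 0 ≠ ix 1 by decide), h0]
      simp [dL, d, ix, aU, ha0]
    · rw [sgl, Pi.mulSingle_eq_same, h1]
      simp [dL, d, ix, hβ]
    · rw [sgl, Pi.mulSingle_eq_of_ne (show ix 2 ≠ ix 1 by decide)]
      simp only [dL, d, Units.val_one, mul_one, h2]
      show ι (σK a0) = _
      rw [hσι, ha0, ← Units.val_pow_eq_pow_val, ← pow_mul]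
      congr 2; ring
    · rw [sgl, Pi.mulSingle_eq_of_ne (show ix 3 ≠ ix 1 by decide)]
      simp only [dL, d, Units.val_one, mul_one, h3]
      show ι (σK (σK a0)) = _
      rw [hσι, hσι, ha0, ← Units.val_pow_eq_pow_val, ← Units.val_pow_eq_pow_val, ← pow_mul, ← pow_mul]
      congr 2; ring
  have hchid : (chi chevD4 auxD4 dL d4p2)⁻¹ = δ := by
    have hc : ∀ j : Fin 4, auxD4.cart j.val d4p2 = (![-1, 2, -1, -1] : Fin 4 → ℤ) j := by
      decide +kernel
    have e : ∀ k : Fin 4, k ≠ 1 → dL (ix k) = cz q z (ix k) := fun k hk => by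
      rw [← hdL', Pi.mul_apply, sgl,
        Pi.mulSingle_eq_of_ne (show ix k ≠ ix 1 from fun e => hk e), mul_one]
    rw [chi]
    show (∏ i : Fin 4, dL (ix i) ^ auxD4.cart i.val d4p2)⁻¹ = _
    obtain ⟨h0, h1, h2, h3⟩ := cz_ix q z
    rw [Fin.prod_univ_four, hc, hc, hc, hc, e 0 (by decide), e 2 (by decide), e 3 (by decide),
      h0, h2, h3, show dL (ix 1) = 1 from Units.ext (by simp [dL, d, ix]), hδ, hβ]
    simp [← mul_inv, ← pow_add, ← pow_mul]
    congr 1; ring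
  set g : GL chevD4.Idx L := phi Q with hg
  have hmain : g * Matrix.GeneralLinearGroup.map ι (h : GL chevD4.Idx K) * g⁻¹ =
      tor chevD4 auxD4 (cz q z) := by
    show g * Matrix.GeneralLinearGroup.map ι (tor chevD4 auxD4 d * phi A) * g⁻¹ = _
    rw [map_mul (Matrix.GeneralLinearGroup.map ι), map_tor, map_phi, show (fun i => Units.map (ι : K →* L) (d i)) = dL from rfl, hg,
      ← hdL', map_mul (tor chevD4 auxD4)]
    have hpull : phi Q * tor chevD4 auxD4 dL = tor chevD4 auxD4 dL * phi (dtw δ Q) := by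
      rw [← hchid]
      have := tor_conj_phi dL (dtw (chi chevD4 auxD4 dL d4p2)⁻¹ Q)
      have e : dtw (chi chevD4 auxD4 dL d4p2) (dtw (chi chevD4 auxD4 dL d4p2)⁻¹ Q) = Q := by
        refine Subtype.ext ?_
        have := (chi chevD4 auxD4 dL d4p2).ne_zero
        ext i j
        fin_cases i <;> fin_cases j <;> simp [dtw_val, dmat]
      rw [e] at this
      rw [← this]; group
    rw [show phi Q * (tor chevD4 auxD4 dL * phi (SpecialLinearGroup.map ι A)) * (phi Q)⁻¹ =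
      phi Q * tor chevD4 auxD4 dL * (phi (SpecialLinearGroup.map ι A) * (phi Q)⁻¹) by group, hpull,
      mul_assoc, ← map_inv, ← map_mul, ← map_mul, ← phi_dSL]
    congr 2
    rw [← mul_assoc, mul_inv_eq_iff_eq_mul]
    refine Subtype.ext ?_
    have hD0ne : (δ : L) ≠ 0 := δ.ne_zero
    have hδv : (δ : L) = (β : L) ^ q * β := by
      rw [hδ, Units.val_pow_eq_pow_val, pow_succ]
    have hb0 := β.ne_zero
    show dmat δ !![κ, κ * β; 1, (β : L) ^ q] *
        (!![1, -D0; 0, 1] * !![1, 0; D0⁻¹, 1] * !![1, -D0; 0, 1] * !![1, T0; 0, 1]).map ι =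
      !![(β : L), 0; 0, ((β⁻¹ : Lˣ) : L)] * !![κ, κ * β; 1, (β : L) ^ q]
    exact companion_eq ι _ _ hδv hb0 hD0' hT0' κ
  -- order
  have hinjι : Function.Injective (Matrix.GeneralLinearGroup.map (n := chevD4.Idx) ι) :=
    fun x y e => Units.ext (Matrix.map_injective ι.injective (congrArg Units.val e))
  have hord : orderOf h = m := by
    rw [← Subgroup.orderOf_coe, ← orderOf_injective _ hinjι,
      ← orderOf_injective (MulAut.conj g).toMonoidHom (MulAut.conj g).injective]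
    show orderOf (g * Matrix.GeneralLinearGroup.map ι (h : GL chevD4.Idx K) * g⁻¹) = m
    rw [hmain, show tor chevD4 auxD4 (cz q z) = ((tor chevD4 auxD4).comp (cz q)) z from rfl,
      orderOf_injective _ (tor_cz_inj hσ), hoz]
  refine ⟨Subgroup.zpowers h, inferInstance, by rw [Nat.card_zpowers, hord], ?_⟩
  symm
  refine Subgroup.eq_of_le_of_card_ge ?_ ?_
  · intro x hx
    rw [Subgroup.mem_centralizer_iff]
    intro y hy
    obtain ⟨i, rfl⟩ := Subgroup.mem_zpowers_iff.1 hy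
    obtain ⟨j, rfl⟩ := Subgroup.mem_zpowers_iff.1 hx
    exact ((Commute.refl h).zpow_zpow i j).eq
  rw [Nat.card_zpowers, hord]
  -- regularity
  have hdvd : ∀ k : ℤ, z ^ k = 1 → tm q ∣ k := by
    intro k hk
    rw [← orderOf_dvd_iff_zpow_eq_one, hoz, hm] at hk
    simpa [tm, Nat.cast_sub (Nat.one_le_pow 3 q (by omega))] using hk
  have hsub : ∀ r s : Fin 24, chi chevD4 auxD4 (cz q z) r.val = chi chevD4 auxD4 (cz q z) s.val →
      tm q ∣ expo q r - expo q s := by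
    intro r s e
    rw [chi_cz, chi_cz] at e
    exact hdvd _ (by rw [_root_.zpow_sub, e, mul_inv_cancel])
  have hreg : ∀ r < chevD4.nroots, chi chevD4 auxD4 (cz q z) r ≠ 1 := by
    intro r hr e
    have h1 := chi_cz q z ⟨r, hr⟩
    exact (regular hq2 ⟨r, hr⟩).1 (hdvd _ (h1.symm.trans e))
  have hsep : ∀ r < chevD4.nroots, ∀ s < chevD4.nroots,
      chi chevD4 auxD4 (cz q z) r = chi chevD4 auxD4 (cz q z) s → r ≠ s →
      ∃ u < chevD4.nroots, (∀ v < chevD4.nroots,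
        chi chevD4 auxD4 (cz q z) v = chi chevD4 auxD4 (cz q z) u → v = u) ∧
        pr chevD4 auxD4 r u ≠ pr chevD4 auxD4 s u := by
    intro r hr s hs e hne
    obtain ⟨u, hu, hp⟩ := (regular hq2 ⟨r, hr⟩).2 ⟨s, hs⟩ (hsub ⟨r, hr⟩ ⟨s, hs⟩ e)
      (fun e' => hne (congrArg Fin.val e'))
    exact ⟨u.val, u.2, fun v hv e' => congrArg Fin.val (hu ⟨v, hv⟩ (hsub ⟨v, hv⟩ u e')), hp⟩
  have hdesc : ∀ y : ↥(Subgroup.centralizer (Subgroup.zpowers h : Set ↥(twistedD4 K q))),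
      ∃ w : Lˣ, w ^ m = 1 ∧ g * Matrix.GeneralLinearGroup.map ι y.1.1 * g⁻¹ =
        tor chevD4 auxD4 (cz q w) := by
    intro y
    set yL := Matrix.GeneralLinearGroup.map ι y.1.1 with hyL
    have hfix : (D43.tw σ).Maps yL yL := map_twisted_fix ι hσ hinvK y.1.2
    have hmem : g * yL * g⁻¹ ∈ chevD4.group L :=
      mul_mem (mul_mem (phi_mem Q) ((D43.tw σ).fix_le_group hfix)) (inv_mem (phi_mem Q))
    have hcy : Matrix.GeneralLinearGroup.map ι (h : GL chevD4.Idx K) * yL =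
        yL * Matrix.GeneralLinearGroup.map ι (h : GL chevD4.Idx K) := by
      have := Subgroup.mem_centralizer_iff.1 y.2 h (Subgroup.mem_zpowers h)
      rw [hyL, ← map_mul, ← map_mul]
      exact congrArg _ (congrArg Subtype.val this)
    obtain ⟨t, ht⟩ := commute_regular_sep stdD4 (cz q z) hreg hsep hmem (by
        rw [← hmain]
        calc g * Matrix.GeneralLinearGroup.map ι (h : GL chevD4.Idx K) * g⁻¹ * (g * yL * g⁻¹) =
            g * (Matrix.GeneralLinearGroup.map ι (h : GL chevD4.Idx K) * yL) * g⁻¹ := by group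
          _ = _ := by rw [hcy]; group)
    have hσQ : phi (SpecialLinearGroup.map σ Q) = nG stdD4.good d4p2 (κ ^ q) * g := by
      rw [hg, ← phi_w, ← map_mul]
      congr 1
      refine Subtype.ext ?_
      have hκq : κ ^ q = -κ := by
        rw [hκ, inv_pow, ← hσ, map_sub, map_pow, hσ, ← pow_mul,
          ← Units.val_pow_eq_pow_val β (q * q), hβq2, ← neg_sub, inv_neg]
      have hbq : ((β : L) ^ q) ^ q = β := by
        rw [← pow_mul, ← Units.val_pow_eq_pow_val β (q * q), hβq2]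
      show (!![κ, κ * β; 1, (β : L) ^ q]).map σ =
        !![1, κ ^ q; 0, 1] * !![1, 0; -(κ ^ q)⁻¹, 1] * !![1, κ ^ q; 0, 1] *
          !![κ, κ * β; 1, (β : L) ^ q]
      rw [hκq]
      exact frob_eq σ (by rw [hσ, hκq]) (by rw [hσ]) (by rw [hσ, hbq]) hκ0
    have hmaps := Twist.Maps.mul _ (Twist.Maps.mul _ (maps_phi (σ := σ) Q) hfix)
      (Twist.Maps.inv _ (maps_phi (σ := σ) Q))
    rw [hσQ, ← hg, ht, _root_.mul_inv_rev,
      show nG stdD4.good d4p2 (κ ^ q) * g * yL * (g⁻¹ * (nG stdD4.good d4p2 (κ ^ q))⁻¹) =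
        nG stdD4.good d4p2 (κ ^ q) * (g * yL * g⁻¹) * (nG stdD4.good d4p2 (κ ^ q))⁻¹ by group,
      ht] at hmaps
    obtain ⟨w, hw, hw'⟩ := twist_solve (u := Units.mk0 (κ ^ q) (pow_ne_zero _ hκ0)) hσ hq2 hmaps
    exact ⟨w, hw, ht.trans hw'⟩
  choose w hw hw' using hdesc
  haveI : NeZero m := ⟨by rw [← hoz]; exact (orderOf_pos z).ne'⟩
  refine le_trans (Nat.card_le_card_of_injective
    (fun y => (⟨w y, (mem_rootsOfUnity m (w y)).2 (hw y)⟩ : rootsOfUnity m L)) ?_) ?_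
  · intro y y' e
    have e' : w y = w y' := congrArg Subtype.val e
    have h1 := hw' y
    rw [e', ← hw' y'] at h1
    exact Subtype.ext (Subtype.ext (hinjι (mul_left_cancel (mul_right_cancel h1))))
  · exact card_rootsOfUnity L m

end CfsgLib.Chev.D4Torus
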